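import Groth.Agent.TwistFlat.Projection
import Groth.Agent.CBC.TensorA
import Groth.Agent.DirImgAff.Basic
import Groth.Agent.LimTop.PullSec
import Groth.Agent.QCoh.Qcqs

/-! # The projection formula for affine morphisms and quasi-coherent modules -/

set_option autoImplicit false
set_option linter.style.haveILetI false
set_option backward.isDefEq.respectTransparency false

universe u

open CategoryTheory AlgebraicGeometry TopologicalSpace Opposite
open scoped TensorProduct

noncomputable section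

namespace Groth.Agent.ProjAff7

open Groth.Agent.QCoh Groth.Agent.Props.GenTensor Groth.Agent.KFlat.StalkTensor

theorem secMap_bijective {X : Scheme.{u}} (F G : X.Modules) [F.IsQuasicoherent] [G.IsQuasicoherent]
    {U : X.Opens} (hU : IsAffineOpen U) : Function.Bijective (LimTop.TensorQC.secMap F G U) := by
  haveI := LimTop.TensorQC.isQuasicoherent_tensM F G
  exact CBC.bijective_of_stalkwise hU (LimTop.TensorQC.isStalkwiseLoc_secMap F G hU)

set_option maxHeartbeats 800000 in
theorem isIso_projMap {X Y : Scheme.{u}} (f : X ⟶ Y) [IsAffineHom f] (F : X.Modules) (E : Y.Modules)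
    [F.IsQuasicoherent] [E.IsQuasicoherent] : IsIso (TwistFlat.projMap f F E) := by
  refine DirImgAff.isIso_of_affine _ fun V hV => ?_
  have hW : IsAffineOpen (f ⁻¹ᵁ V) := hV.preimage f
  haveI : ((Coh.push f).obj F).IsQuasicoherent := QCoh.isQuasicoherent_pushforward f F
  let A := Γ(X, f ⁻¹ᵁ V)
  let B := Γ(Y, V)
  letI : Algebra B A := (f.appLE V (f ⁻¹ᵁ V) le_rfl).hom.toAlgebra
  letI := LimTop.secModule f E (le_refl (f ⁻¹ᵁ V))
  haveI : IsScalarTower B A Γ((Scheme.Modules.pullback f).obj E, f ⁻¹ᵁ V) :=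
    IsScalarTower.of_algebraMap_smul fun _ _ => rfl
  letI : Module B Γ(F, f ⁻¹ᵁ V) := show Module B Γ((Coh.push f).obj F, V) from inferInstance
  haveI : IsScalarTower B A Γ(F, f ⁻¹ᵁ V) := IsScalarTower.of_algebraMap_smul fun b m => by
    change f.appLE V (f ⁻¹ᵁ V) le_rfl b • m = f.app V b • m
    rw [Scheme.Hom.appLE_eq_app]
  have hbc := LimTop.isBaseChange_unitSec f E (le_refl (f ⁻¹ᵁ V)) hV hW
  let e : Γ(F, f ⁻¹ᵁ V) ⊗[B] Γ(E, V) ≃ₗ[A] Γ(F, f ⁻¹ᵁ V) ⊗[A] Γ((Scheme.Modules.pullback f).obj E, f ⁻¹ᵁ V) :=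
    (TensorProduct.AlgebraTensorModule.cancelBaseChange B A A Γ(F, f ⁻¹ᵁ V) Γ(E, V)).symm ≪≫ₗ
      TensorProduct.congr (LinearEquiv.refl A _) hbc.equiv
  let θ : Γ(F, f ⁻¹ᵁ V) ⊗[B] Γ(E, V) → Γ(CohB1.tensorMod F ((Scheme.Modules.pullback f).obj E), f ⁻¹ᵁ V) :=
    fun t => LimTop.TensorQC.secMap F ((Scheme.Modules.pullback f).obj E) (f ⁻¹ᵁ V) (e t)
  have hθ : Function.Bijective θ := (secMap_bijective F _ hW).comp e.bijective
  have he : ∀ (m : Γ(F, f ⁻¹ᵁ V)) (n : Γ(E, V)), e (m ⊗ₜ n) = m ⊗ₜ[A] Props.GenPull.pb f n := fun m n => by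
    rw [LinearEquiv.trans_apply, TensorProduct.AlgebraTensorModule.cancelBaseChange_symm_tmul,
      TensorProduct.congr_tmul, LinearEquiv.refl_apply, IsBaseChange.equiv_tmul, one_smul]
    congr 1
    exact congr($(((Scheme.Modules.pullback f).obj E).presheaf.map_id _) _)
  have hS := secMap_bijective ((Coh.push f).obj F) E hV
  refine (Function.Bijective.of_comp_iff _ hS).mp ?_
  refine Eq.mpr (congrArg Function.Bijective (funext fun t => ?_)) hθ
  induction t using TensorProduct.induction_on with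
  | zero =>
    show (TwistFlat.projMap f F E).app V (LimTop.TensorQC.secMap ((Coh.push f).obj F) E V 0) = θ 0
    simp only [θ, map_zero]
  | tmul m n =>
    show (TwistFlat.projMap f F E).app V (tmul (M := (Coh.push f).obj F) m n) = θ (m ⊗ₜ n)
    rw [TwistFlat.projMap_tmul]
    have he' := he m n
    show _ = LimTop.TensorQC.secMap F _ _ (e (m ⊗ₜ n))
    refine Eq.trans ?_ (congrArg _ he').symm
    rfl
  | add a b ha hb =>
    have ha' : (TwistFlat.projMap f F E).app V (LimTop.TensorQC.secMap ((Coh.push f).obj F) E V a) = θ a := ha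
    have hb' : (TwistFlat.projMap f F E).app V (LimTop.TensorQC.secMap ((Coh.push f).obj F) E V b) = θ b := hb
    show (TwistFlat.projMap f F E).app V (LimTop.TensorQC.secMap ((Coh.push f).obj F) E V (a + b)) = θ (a + b)
    rw [map_add, map_add, ha', hb']
    exact ((congrArg _ (map_add e a b)).trans (map_add _ _ _)).symm

end Groth.Agent.ProjAff7
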